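import Groth.Agent.EtPBC.RatDim
import Groth.Agent.EtPBC.CdPush
import Groth.Agent.EtColimH.Main
import Groth.Agent.KummerLib.Torsion
import Mathlib

/-!
# Cohomological dimension for all abelian sheaves from torsion and rational sheaves
-/

set_option autoImplicit false
set_option backward.isDefEq.respectTransparency false
set_option backward.isDefEq.respectTransparency.types false
set_option linter.auxLemma false
set_option linter.style.haveILetI false
set_option maxHeartbeats 1000000
set_option synthInstance.maxHeartbeats 400000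

universe u

open CategoryTheory CategoryTheory.Limits CategoryTheory.Abelian AlgebraicGeometry Opposite

noncomputable section

namespace Groth.Agent.EtCdAll

attribute [local instance 100000] EtCoh.H._proof_1 Groth.Agent.EtMV.hext
attribute [local instance 200000] Groth.Agent.EtMV.hextAb

/-- positive integers under divisibility -/
def Dvd' : Type u := ULift.{u} {n : ℕ // 0 < n}

instance : Preorder Dvd'.{u} where
  le a b := a.down.1 ∣ b.down.1
  le_refl a := dvd_refl _
  le_trans a b c := dvd_trans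

instance : Nonempty Dvd'.{u} := ⟨⟨⟨1, one_pos⟩⟩⟩

instance : IsDirectedOrder Dvd'.{u} :=
  ⟨fun a b => ⟨⟨⟨a.down.1 * b.down.1, Nat.mul_pos a.down.2 b.down.2⟩⟩, dvd_mul_right _ _, dvd_mul_left _ _⟩⟩

variable {X : Scheme.{u}} (G : EtCoh.Ab X)

/-- `G` with multiplications as transition maps -/
def divDiag : Dvd'.{u} ⥤ EtCoh.Ab X where
  obj _ := G
  map {a b} _ := (b.down.1 / a.down.1) • 𝟙 G
  map_id a := by rw [Nat.div_self a.down.2, one_smul]
  map_comp {a b c} h h' := by
    rw [Preadditive.comp_nsmul, Category.comp_id, smul_smul, mul_comm]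
    congr 1
    obtain ⟨s, hs⟩ := h.le
    obtain ⟨t, ht⟩ := h'.le
    rw [ht, hs, Nat.mul_div_cancel_left _ a.down.2, mul_assoc, Nat.mul_div_cancel_left _ a.down.2,
      ← mul_assoc, Nat.mul_div_cancel_left _ (hs ▸ b.down.2)]

/-- the rationalisation -/
def ratl : EtCoh.Ab X := colimit (divDiag G)

theorem divisible_ratl : EtPBC.RatDim.Divisible (ratl G) := by
  intro n hn
  let sh : Dvd'.{u} → Dvd'.{u} := fun a => ⟨⟨a.down.1 * n, Nat.mul_pos a.down.2 hn⟩⟩
  let inv' : ratl G ⟶ ratl G := colimit.desc (divDiag G)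
    { pt := ratl G
      ι :=
        { app := fun a => (show (divDiag G).obj a ⟶ ratl G from colimit.ι (divDiag G) (sh a))
          naturality := fun a b h => by
            have hab : sh a ≤ sh b := Nat.mul_dvd_mul_right h.le n
            refine Eq.trans ?_ (Category.comp_id _).symm
            rw [← colimit.w (divDiag G) (homOfLE hab)]
            show ((b.down.1 / a.down.1) • 𝟙 G) ≫ colimit.ι (divDiag G) (sh b) =
              ((b.down.1 * n / (a.down.1 * n)) • 𝟙 G) ≫ colimit.ι (divDiag G) (sh b)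
            rw [Nat.mul_div_mul_right _ _ hn] } }
  have key : ∀ a : Dvd'.{u}, n • colimit.ι (divDiag G) (sh a) = colimit.ι (divDiag G) a := fun a => by
    have hab : a ≤ sh a := dvd_mul_right _ _
    rw [← colimit.w (divDiag G) (homOfLE hab)]
    show _ = ((a.down.1 * n / a.down.1) • 𝟙 G) ≫ colimit.ι (divDiag G) (sh a)
    rw [Nat.mul_div_cancel_left _ a.down.2, Preadditive.nsmul_comp, Category.id_comp]
  refine ⟨inv', ?_, ?_⟩ <;> refine colimit.hom_ext fun a => ?_
  · rw [Preadditive.nsmul_comp, Category.id_comp, Preadditive.comp_nsmul, colimit.ι_desc]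
    exact (key a).trans (Category.comp_id _).symm
  · rw [Preadditive.comp_nsmul, Category.comp_id, Preadditive.comp_nsmul, colimit.ι_desc]
    exact (key a).trans (Category.comp_id _).symm

theorem exists_nsmul_eq_zero [CompactSpace X] [QuasiSeparatedSpace X] (q : ℕ)
    (h : Subsingleton (EtCoh.H X (ratl G) q)) (c : EtCoh.H X G q) : ∃ n : ℕ, 0 < n ∧ n • c = 0 := by
  haveI := EtColimH.preservesColimitsOfShape_HF_small (X := X) q Dvd'.{u}
  have hc := isColimitOfPreserves (EtCoh.HF X q) (colimit.isColimit (divDiag G))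
  let a : Dvd'.{u} := ⟨⟨1, one_pos⟩⟩
  obtain ⟨b, i, j, hb⟩ := Concrete.isColimit_exists_of_rep_eq _ hc (i := a) (j := a) c 0
    (@Subsingleton.elim (EtCoh.H X (ratl G) q) h _ _)
  refine ⟨b.down.1, b.down.2, ?_⟩
  rw [map_zero] at hb
  refine Eq.trans ?_ hb
  show _ = Ext.comp c (Ext.mk₀ ((b.down.1 / 1) • 𝟙 G)) (add_zero q)
  rw [KummerLib.comp_mk₀_nsmul, Nat.div_one]

/-- classes killed by `n` vanish if sheaves killed by `n` have no cohomology around the degree -/
theorem eq_zero_of_nsmul {e : ℕ} (he : EtPBC.KVan X e) {q : ℕ} (hq : e + 1 < q) {n : ℕ} (hn : 0 < n)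
    (c : EtCoh.H X G q) (hc : n • c = 0) : c = 0 := by
  obtain ⟨r, rfl⟩ : ∃ r, q = r + 1 := ⟨q - 1, by omega⟩
  let m : G ⟶ G := n • 𝟙 G
  let π := Abelian.factorThruImage m
  let ι := Abelian.image.ι m
  have hm : Ext.comp c (Ext.mk₀ m) (add_zero (r + 1)) = 0 := by rw [KummerLib.comp_mk₀_nsmul]; exact hc
  have hk : EtPBC.Killed n (kernel m) := (EtPBC.killed_iff _ _).2 (by
    rw [← cancel_mono (kernel.ι m), zero_comp, Preadditive.nsmul_comp, Category.id_comp,
      ← kernel.condition m, Preadditive.comp_nsmul, Category.comp_id])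
  have hq' : EtPBC.Killed n (cokernel m) := (EtPBC.killed_iff _ _).2 (by
    rw [← cancel_epi (cokernel.π m), comp_zero, Preadditive.comp_nsmul, Category.comp_id,
      ← cokernel.condition m, Preadditive.nsmul_comp, Category.id_comp])
  let S₂ := ShortComplex.mk ι (cokernel.π m) (kernel.condition _)
  have hS₂ : S₂.ShortExact := { exact := ShortComplex.exact_of_f_is_kernel _ (kernelIsKernel _) }
  let S₁ := ShortComplex.mk (kernel.ι m) π (by
    rw [← cancel_mono ι, zero_comp, Category.assoc, Abelian.image.fac, kernel.condition])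
  have hS₁ : S₁.ShortExact :=
    { exact := (ShortComplex.exact_iff_of_epi_of_isIso_of_mono
        ({ τ₁ := 𝟙 _, τ₂ := 𝟙 _, τ₃ := ι, comm₁₂ := by simp [S₁], comm₂₃ := by simp [S₁, π, ι] } :
          S₁ ⟶ ShortComplex.mk (kernel.ι m) m (kernel.condition m))).2 (ShortComplex.exact_kernel m) }
  have h1 : Ext.comp c (Ext.mk₀ π) (add_zero (r + 1)) = 0 := by
    obtain ⟨d, hd⟩ := Ext.covariant_sequence_exact₁ (EtCoh.const X ℤ) hS₂
      (Ext.comp c (Ext.mk₀ π) (add_zero (r + 1))) (by
        show Ext.comp _ (Ext.mk₀ ι) (add_zero (r + 1)) = 0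
        rw [Ext.comp_assoc_of_third_deg_zero, Ext.mk₀_comp_mk₀, Abelian.image.fac, hm]) (n₀ := r) rfl
    rw [← hd, show d = 0 from @Subsingleton.elim (EtCoh.H X (cokernel m) r) (he n hn _ hq' r (by omega)) d 0,
      Ext.zero_comp]
  obtain ⟨d, hd⟩ := Ext.covariant_sequence_exact₂ (EtCoh.const X ℤ) hS₁ c h1
  rw [← hd, show d = 0 from @Subsingleton.elim (EtCoh.H X (kernel m) (r + 1)) (he n hn _ hk _ (by omega)) d 0,
    Ext.zero_comp]

/-- **cohomological dimension for all abelian sheaves** -/
theorem subsingleton_H_high [IsNoetherian X] {d e : ℕ} (hd : topologicalKrullDim ↥X ≤ d) (he : EtPBC.KVan X e)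
    (q : ℕ) (hq : d + e + 1 < q) : Subsingleton (EtCoh.H X G q) := by
  refine subsingleton_of_forall_eq 0 fun c => ?_
  obtain ⟨n, hn, hc⟩ := exists_nsmul_eq_zero G q
    (EtPBC.RatDim.subsingleton_H_of_divisible hd _ (divisible_ratl G) q (by omega)) c
  exact eq_zero_of_nsmul G he (by omega) hn c hc

end Groth.Agent.EtCdAll
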