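import Mathlib

/-!
# Unbounded complexes of injectives with acyclic cohomology objects
-/

set_option autoImplicit false
set_option backward.isDefEq.respectTransparency false
set_option backward.isDefEq.respectTransparency.types false
set_option linter.style.haveILetI false
set_option linter.unusedSectionVars false
set_option maxHeartbeats 1000000

universe w w' v

open CategoryTheory CategoryTheory.Limits CategoryTheory.Abelian

noncomputable section

namespace Groth.Agent.EtCdAll

variable {A : Type v} [Category.{w} A] [Abelian A] [HasExt.{w'} A] (P : A)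
  (N : ℕ) (hN : ∀ (M : A) (p : ℕ), N ≤ p → Subsingleton (Ext P M p))
  (I : CochainComplex A ℤ) [∀ n, Injective (I.X n)]
  (hH : ∀ (n : ℤ) (p : ℕ), 0 < p → Subsingleton (Ext P (I.homology n) p))

/-- cocycles to terms to coboundaries -/
abbrev seqX (n : ℤ) : ShortComplex A :=
  ShortComplex.mk (I.iCycles n) (Abelian.factorThruImage (I.toCycles n (n + 1))) (by
    rw [← cancel_mono (Abelian.image.ι (I.toCycles n (n + 1))), Category.assoc, Abelian.image.fac,
      zero_comp, ← cancel_mono (I.iCycles (n + 1)), Category.assoc, I.toCycles_i, I.iCycles_d, zero_comp])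

theorem seqX_shortExact (n : ℤ) : (seqX I n).ShortExact := by
  refine { exact := ShortComplex.exact_of_f_is_kernel _ (KernelFork.IsLimit.ofι' _ _ fun k hk => ?_) }
  refine ⟨I.liftCycles k (n + 1) (by simp) ?_, I.liftCycles_i _ _ _ _⟩
  have h := congrArg (· ≫ Abelian.image.ι (I.toCycles n (n + 1)) ≫ I.iCycles (n + 1)) hk
  simp only [Category.assoc, zero_comp, reassoc_of% (Abelian.image.fac (I.toCycles n (n + 1))), I.toCycles_i] at h
  exact h

/-- coboundaries to cocycles to cohomology -/
abbrev seqH (n : ℤ) : ShortComplex A :=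
  ShortComplex.mk (Abelian.image.ι (I.toCycles n (n + 1))) (I.homologyπ (n + 1)) (by
    rw [← cancel_epi (Abelian.factorThruImage (I.toCycles n (n + 1))),
      reassoc_of% (Abelian.image.fac (I.toCycles n (n + 1))),
      I.toCycles_comp_homologyπ, comp_zero])

theorem seqH_shortExact (n : ℤ) : (seqH I n).ShortExact := by
  refine { exact := ?_ }
  exact (ShortComplex.exact_iff_of_epi_of_isIso_of_mono
      ({ τ₁ := Abelian.factorThruImage (I.toCycles n (n + 1)), τ₂ := 𝟙 _, τ₃ := 𝟙 _,
         comm₁₂ := by simp [seqH], comm₂₃ := by simp [seqH] } :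
        ShortComplex.mk (I.toCycles n (n + 1)) (I.homologyπ (n + 1)) (I.toCycles_comp_homologyπ n (n + 1)) ⟶
          seqH I n)).1
    (ShortComplex.exact_of_g_is_cokernel _ (I.homologyIsCokernel n (n + 1) (by simp)))

include hN hH

/-- cocycles are acyclic -/
theorem subsingleton_ext_cycles : ∀ (k p : ℕ), 0 < p → N ≤ p + k → ∀ n : ℤ, Subsingleton (Ext P (I.cycles n) p) := by
  intro k
  induction k with
  | zero => exact fun p _ h n => hN _ p (by omega)
  | succ k ih =>
    intro p hp hpk n
    obtain ⟨m, rfl⟩ : ∃ m, n = m + 1 := ⟨n - 1, by omega⟩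
    have hB : Subsingleton (Ext P (Abelian.image (I.toCycles m (m + 1))) p) := by
      refine subsingleton_of_forall_eq 0 fun b => ?_
      obtain ⟨x, hx⟩ := Ext.covariant_sequence_exact₃ P (seqX_shortExact I m) b rfl
        (@Subsingleton.elim _ (ih (p + 1) (by omega) (by omega) m) _ _)
      obtain ⟨r, rfl⟩ : ∃ r, p = r + 1 := ⟨p - 1, by omega⟩
      rw [← hx, show x = 0 from Ext.eq_zero_of_injective x, Ext.zero_comp]
    refine subsingleton_of_forall_eq 0 fun z => ?_
    obtain ⟨b, hb⟩ := Ext.covariant_sequence_exact₂ P (seqH_shortExact I m) z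
      (@Subsingleton.elim _ (hH (m + 1) p hp) _ _)
    rw [← hb, show b = 0 from @Subsingleton.elim _ hB b 0, Ext.zero_comp]

variable [HasDerivedCategory A] [I.IsKInjective]

/-- **no maps into the complex: no maps into the cohomology** -/
theorem eq_zero_of_no_maps
    (h : ∀ φ : (DerivedCategory.singleFunctor A 0).obj P ⟶ DerivedCategory.Q.obj I, φ = 0)
    (s : P ⟶ I.homology 0) : s = 0 := by
  have hB : Subsingleton (Ext P (Abelian.image (I.toCycles (-1) (-1 + 1))) 1) := by
    refine subsingleton_of_forall_eq 0 fun b => ?_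
    obtain ⟨x, hx⟩ := Ext.covariant_sequence_exact₃ P (seqX_shortExact I (-1)) b rfl
      (@Subsingleton.elim _ (subsingleton_ext_cycles P N hN I hH N 2 two_pos (by omega) (-1)) _ _)
    rw [← hx, show x = 0 from Ext.eq_zero_of_injective x, Ext.zero_comp]
  -- lift to a cocycle
  obtain ⟨z, hz⟩ : ∃ z : P ⟶ I.cycles 0, z ≫ I.homologyπ 0 = s := by
    have key : ∀ t : P ⟶ I.homology (-1 + 1), ∃ z : P ⟶ I.cycles (-1 + 1), z ≫ I.homologyπ (-1 + 1) = t := by
      intro t
      obtain ⟨w, hw⟩ := Ext.covariant_sequence_exact₃ P (seqH_shortExact I (-1)) (Ext.mk₀ t) rfl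
        (@Subsingleton.elim _ hB _ _)
      obtain ⟨z, rfl⟩ := (Ext.mk₀_bijective _ _).2 w
      rw [Ext.mk₀_comp_mk₀] at hw
      exact ⟨z, (Ext.mk₀_bijective _ _).1 hw⟩
    exact key s
  let φ : (HomologicalComplex.single A (ComplexShape.up ℤ) 0).obj P ⟶ I :=
    HomologicalComplex.mkHomFromSingle (z ≫ I.iCycles 0) (fun k _ => by
      rw [Category.assoc, I.iCycles_d, comp_zero])
  have h1 : DerivedCategory.Q.map φ = 0 := by
    have h2 := h ((DerivedCategory.singleFunctorIsoCompQ A 0).hom.app P ≫ DerivedCategory.Q.map φ)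
    exact (cancel_epi _).1 (h2.trans (comp_zero).symm)
  have h3 : (HomotopyCategory.quotient A (ComplexShape.up ℤ)).map φ = 0 := by
    refine (CochainComplex.IsKInjective.Qh_map_bijective _ I).1 ?_
    rw [Functor.map_zero]
    have e := (DerivedCategory.quotientCompQhIso A).hom.naturality φ
    rw [h1, comp_zero] at e
    exact (cancel_mono _).1 (e.trans zero_comp.symm)
  let H : Homotopy φ 0 := HomotopyCategory.homotopyOfEq _ _ (h3.trans (Functor.map_zero _ _ _).symm)
  have h4 := H.comm 0
  rw [dNext_eq H.hom (i' := 1) (by simp), prevD_eq H.hom (j' := -1) (by simp),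
    HomologicalComplex.zero_f, add_zero, HomologicalComplex.single_obj_d, zero_comp, zero_add,
    HomologicalComplex.mkHomFromSingle_f] at h4
  have h5 : z = (HomologicalComplex.singleObjXSelf (ComplexShape.up ℤ) 0 P).inv ≫ H.hom 0 (-1) ≫
      I.toCycles (-1) 0 := by
    rw [← cancel_mono (I.iCycles 0), Category.assoc, Category.assoc, I.toCycles_i, ← h4, Iso.inv_hom_id_assoc]
  rw [← hz, h5, Category.assoc, Category.assoc, I.toCycles_comp_homologyπ, comp_zero, comp_zero]

end Groth.Agent.EtCdAll
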