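import Groth.Agent.EtPBC.Skyscraper
import Groth.Agent.EtHens.Basic
import Groth.Agent.EtPBC.RatDim
import Groth.Agent.EtMV.Sect
import Mathlib

/-!
# Sheaves supported at closed points are detected by global sections
-/

set_option autoImplicit false
set_option backward.isDefEq.respectTransparency false
set_option backward.isDefEq.respectTransparency.types false
set_option linter.auxLemma false
set_option linter.style.haveILetI false
set_option maxHeartbeats 1000000
set_option synthInstance.maxHeartbeats 400000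

universe u

open CategoryTheory CategoryTheory.Limits CategoryTheory.Abelian AlgebraicGeometry Opposite

noncomputable section

namespace Groth.Agent.EtCdAll

attribute [local instance 100000] EtCoh.H._proof_1 Groth.Agent.EtMV.hext
attribute [local instance 200000] Groth.Agent.EtMV.hextAb

open EtPBC (ZeroAt SuppClosed)

/-- over a separably closed field sheaves without global sections vanish -/
theorem zeroAt_of_no_sections (K : Type u) [Field K] [IsSepClosed K] (F : EtCoh.Ab (Spec (CommRingCat.of K)))
    (h : ∀ φ : EtCoh.const (Spec (CommRingCat.of K)) ℤ ⟶ F, φ = 0) (z : Spec (CommRingCat.of K)) : ZeroAt F z := by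
  haveI : IsSepClosed (IsLocalRing.ResidueField K) :=
    Hensel.isSepClosed_of_ringEquiv (RingEquiv.ofBijective (IsLocalRing.residue K)
      ⟨RingHom.injective _, IsLocalRing.residue_surjective⟩)
  refine (EtPBC.isZero_stalk_iff_zeroAt (ξ := EtHens.pt K) (Subsingleton.elim _ _) F).1 ?_
  have h0 : ∀ s : EtCoh.sect F (EtCoh.top (Spec (CommRingCat.of K))), s = 0 := fun s => by
    obtain ⟨φ, rfl⟩ := (EtMV.κ_bijective F).2 s
    rw [h φ]
    rfl
  refine @AddCommGrpCat.isZero_of_subsingleton _ ⟨fun a b => ?_⟩
  obtain ⟨s, rfl⟩ := (EtHens.bijective_germ K F).2 a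
  obtain ⟨t, rfl⟩ := (EtHens.bijective_germ K F).2 b
  rw [h0 s, h0 t]

/-- **supported at closed points with separably closed residue fields and without sections: zero** -/
theorem isZero_of_suppClosed {X : Scheme.{u}} [IsNoetherian X]
    (hsep : ∀ x : X, IsClosed ({x} : Set X) → IsSepClosed (X.residueField x))
    (G : EtCoh.Ab X) (hG : SuppClosed G) (h : ∀ φ : EtCoh.const X ℤ ⟶ G, φ = 0) : IsZero G := by
  refine EtPBC.isZero_of_zeroAt G fun x => ?_
  by_cases hcl : IsClosed ({x} : Set X)
  swap
  · exact hG x hcl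
  let i : Spec (X.residueField x) ⟶ X := X.fromSpecResidueField x
  haveI : IsClosedImmersion i := (isClosed_singleton_iff_isClosedImmersion).1 hcl
  haveI := hsep x hcl
  haveI := Groth.Agent.EtPullExact.pull_preservesFiniteLimits i
  let u := (EtCoh.pullPushAdj i).unit.app G
  have hr : ∀ y, i y = x := fun y => Scheme.fromSpecResidueField_apply x y
  obtain ⟨Ω, _, _, ξ, hξ, hb⟩ := EtPBC.bijective_stalk_unit_at i (EtPushStalk.liftProp_of_closedImmersion i) G
    default (hr _)
  haveI : Epi u := by
    refine Preadditive.epi_of_isZero_cokernel u (EtPBC.isZero_of_zeroAt _ fun y => ?_)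
    by_cases hy : y = x
    · subst hy; exact EtPBC.zeroAt_cokernel hξ u hb.2
    · refine EtPBC.zeroAt_of_epi (cokernel.π u) (EtPBC.RatDim.zeroAt_push_closedImmersion i _ y ?_)
      rintro ⟨z, rfl⟩
      exact hy (hr z)
  have hker : SuppClosed (kernel u) := fun y hy => EtPBC.zeroAt_of_mono (kernel.ι u) (hG y hy)
  have hpush : ∀ φ : EtCoh.const X ℤ ⟶ (EtCoh.push i).obj ((EtCoh.pull i).obj G), φ = 0 := fun φ => by
    have hS : (ShortComplex.mk (kernel.ι u) u (kernel.condition u)).ShortExact :=
      { exact := ShortComplex.exact_kernel u }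
    obtain ⟨ψ, hψ⟩ := Ext.covariant_sequence_exact₃ (EtCoh.const X ℤ) hS (Ext.mk₀ φ) rfl
      (@Subsingleton.elim (EtCoh.H X (kernel u) 1) (EtPBC.subsingleton_H_of_suppClosed hsep _ hker 1 one_pos) _ _)
    obtain ⟨ψ, rfl⟩ := (Ext.mk₀_bijective _ _).2 ψ
    rw [Ext.mk₀_comp_mk₀] at hψ
    rw [← (Ext.mk₀_bijective _ _).1 hψ, h ψ, zero_comp]
  have hz := zeroAt_of_no_sections (X.residueField x) ((EtCoh.pull i).obj G) (fun φ => by
    refine (cancel_epi (EtCore.pullConst i ℤ).hom).1 ?_
    rw [comp_zero]
    apply ((EtCoh.pullPushAdj i).homEquiv _ _).injective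
    exact (hpush _).trans (hpush _).symm) default
  refine (EtPBC.isZero_stalk_iff_zeroAt hξ G).1 ?_
  haveI : IsIso ((EtCoh.stalk ξ).map u) := (ConcreteCategory.isIso_iff_bijective _).2 hb
  refine IsZero.of_iso ?_ (asIso ((EtCoh.stalk ξ).map u))
  have hp : IsZero ((EtCoh.push i).obj ((EtCoh.pull i).obj G)) := by
    refine (EtCoh.push i).map_isZero (EtPBC.isZero_of_zeroAt _ fun z => ?_)
    rw [Subsingleton.elim z default]
    exact hz
  exact (EtCoh.stalk ξ).map_isZero hp

end Groth.Agent.EtCdAll
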